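import Groth.Agent.MonoFibre.RedSubgroup
import Groth.Agent.MonoFibre.HomFlat
import Groth.Agent.MonoFibre.Connected
import Groth.Agent.GrpSchLib.Smooth
import Groth.Agent.ASp.RedSub
import Groth.Agent.ASp.PropDescend
import Groth.Agent.FlatLocus.SmoothFibres
import Groth.Agent.SubgrpSpreadLib.Main
import Groth.Agent.FixedSmooth.Normalizer
import Mathlib.AlgebraicGeometry.Sites.Fpqc

/-!
# Smoothness and connectedness of the preimage of a subgroup along a faithfully flat homomorphism
-/

set_option autoImplicit false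
set_option backward.isDefEq.respectTransparency.types false
set_option backward.isDefEq.respectTransparency false
set_option linter.style.setOption false
set_option linter.style.haveILetI false
set_option linter.unusedSectionVars false

universe u

open CategoryTheory CategoryTheory.Limits MonoidalCategory CartesianMonoidalCategory MonObj AlgebraicGeometry

noncomputable section

namespace Groth.Agent.PullSubgrp

section Field

variable {K : Type u} [Field K] [IsAlgClosed K]
variable {H H' C : Over (Spec (CommRingCat.of K))} [GrpObj H] [GrpObj H']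

/-- A subgroup containing the kernel and still mapping faithfully flatly onto the target is everything. -/
theorem isIso_of_ker_le {S : Scheme.{u}} {R A B : Over S} [GrpObj R] [GrpObj A] [GrpObj B]
    (ii : R ⟶ A) [IsMonHom ii] [IsClosedImmersion ii.left] (q : A ⟶ B) [IsMonHom q]
    [Flat (ii ≫ q).left] [Surjective (ii ≫ q).left] [LocallyOfFinitePresentation (ii ≫ q).left]
    (hker : ∀ (T : Over S) (x : T ⟶ A), x ≫ q = 1 → ∃ y, y ≫ ii = x) : IsIso ii.left := by
  have hpb := (IsPullback.of_hasPullback (ii ≫ q) q).map (Over.forget S)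
  let r := pullback.fst (ii ≫ q) q
  let h := pullback.snd (ii ≫ q) q
  haveI : Flat h.left := MorphismProperty.of_isPullback (P := @Flat) hpb ‹_›
  haveI : Surjective h.left := MorphismProperty.of_isPullback (P := @Surjective) hpb ‹_›
  haveI : LocallyOfFinitePresentation h.left :=
    MorphismProperty.of_isPullback (P := @LocallyOfFinitePresentation) hpb ‹_›
  obtain ⟨k, hk⟩ := hker _ (h * (r ≫ ii)⁻¹) (by
    rw [MonObj.mul_comp, GrpObj.inv_comp, Category.assoc, show r ≫ ii ≫ q = h ≫ q from pullback.condition,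
      mul_inv_cancel])
  have e : (k * r) ≫ ii = h := by rw [MonObj.mul_comp, hk, inv_mul_cancel_right]
  haveI : StrongEpi ((k * r).left ≫ ii.left) := by
    rw [← Over.comp_left, e]; infer_instance
  haveI : StrongEpi ii.left := strongEpi_of_strongEpi (k * r).left ii.left
  exact isIso_of_mono_of_strongEpi ii.left

theorem smooth_field [LocallyOfFiniteType H.hom] [Smooth H'.hom] [Smooth C.hom]
    (q : H ⟶ H') [IsMonHom q] [Surjective q.left] (c : C ⟶ H)
    (hker : ∀ (T : Over (Spec (CommRingCat.of K))) (x : T ⟶ H), x ≫ q = 1 → ∃ y, y ≫ c = x) :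
    Smooth H.hom := by
  obtain ⟨R, _, ii, hii, hci, hred, hrange⟩ := MonoFibre.exists_redSubgroup (G := H) Set.univ isClosed_univ
    trivial (fun _ _ _ _ _ => trivial) (fun _ _ _ => trivial)
  haveI := hii
  haveI := hci
  haveI := hred
  haveI : IsReduced C.left := ASp.isReduced_of_smooth C.hom
  haveI : IsReduced H'.left := ASp.isReduced_of_smooth H'.hom
  haveI : Surjective ii.left := ⟨fun x => hrange.ge trivial⟩
  haveI : Surjective (ii ≫ q).left := by rw [Over.comp_left]; infer_instance
  haveI : LocallyOfFiniteType R.hom := by rw [← Over.w ii]; infer_instance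
  haveI : Flat (ii ≫ q).left := MonoFibre.flat_of_surjective (ii ≫ q)
  haveI : LocallyOfFiniteType (ii ≫ q).left := by
    haveI : LocallyOfFiniteType ((ii ≫ q).left ≫ H'.hom) := by rw [Over.w]; infer_instance
    exact locallyOfFiniteType_of_comp _ H'.hom
  haveI : IsLocallyNoetherian H'.left := LocallyOfFiniteType.isLocallyNoetherian H'.hom
  haveI : LocallyOfFinitePresentation (ii ≫ q).left := inferInstance
  obtain ⟨c', hc'⟩ := ASp.exists_lift_of_range_subset ii c (fun x _ => hrange.ge trivial)
  haveI := isIso_of_ker_le ii q fun T x hx => by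
    obtain ⟨y, hy⟩ := hker T x hx
    exact ⟨y ≫ c', by rw [Category.assoc, hc', hy]⟩
  haveI : IsReduced H.left := isReduced_of_isOpenImmersion (inv ii.left)
  exact GrpSchLib.smooth_of_isReduced H

theorem connected_field [LocallyOfFiniteType H.hom] [LocallyOfFiniteType H'.hom]
    [ConnectedSpace C.left] [ConnectedSpace H'.left]
    (q : H ⟶ H') [IsMonHom q] [Surjective q.left] (hopen : IsOpenMap q.left) (c : C ⟶ H)
    (hker : ∀ (T : Over (Spec (CommRingCat.of K))) (x : T ⟶ H), x ≫ q = 1 → ∃ y, y ≫ c = x) :
    ConnectedSpace H.left := by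
  haveI : Nonempty H.left := ⟨GrpSchLib.unitPt H⟩
  haveI : PreconnectedSpace H.left := by
    refine preconnectedSpace_iff_clopen.mpr fun s hs => ?_
    by_contra hne
    push_neg at hne
    obtain ⟨a, ha⟩ : s.Nonempty := hne.1
    obtain ⟨b, hb⟩ : sᶜ.Nonempty := Set.nonempty_compl.2 hne.2
    haveI : JacobsonSpace H.left := LocallyOfFiniteType.jacobsonSpace H.hom
    haveI : JacobsonSpace H'.left := LocallyOfFiniteType.jacobsonSpace H'.hom
    obtain ⟨y, hy⟩ : (q.left '' s ∩ q.left '' sᶜ).Nonempty :=
      nonempty_inter (hopen _ hs.isOpen) (hopen _ hs.compl.isOpen)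
        (by rw [← Set.image_union, Set.union_compl_self, Set.image_univ]; exact q.left.surjective.range_eq)
        ⟨_, a, ha, rfl⟩ ⟨_, b, hb, rfl⟩
    obtain ⟨y, hy, hyc⟩ := nonempty_inter_closedPoints ⟨y, hy⟩
      ((hopen _ hs.isOpen).inter (hopen _ hs.compl.isOpen)).isLocallyClosed
    have hpt : ∀ w : Set H.left, IsClopen w → y ∈ q.left '' w → ∃ u : 𝟙_ (Over (Spec (CommRingCat.of K))) ⟶ H,
        u.left (IsLocalRing.closedPoint K) ∈ w ∧ q.left (u.left (IsLocalRing.closedPoint K)) = y := fun w hw hyw => by
      obtain ⟨z, hz, hzy⟩ := hyw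
      obtain ⟨z, hz, hzc⟩ := nonempty_inter_closedPoints (Z := w ∩ q.left ⁻¹' {y}) ⟨z, hz, hzy⟩
        ((hw.isClosed.inter (IsClosed.preimage q.left.continuous hyc)).isLocallyClosed)
      refine ⟨Over.homMk ((pointEquivClosedPoint H.hom).symm ⟨z, hzc⟩).1
        ((pointEquivClosedPoint H.hom).symm ⟨z, hzc⟩).2, ?_⟩
      have e : ((pointEquivClosedPoint H.hom).symm ⟨z, hzc⟩).1 (IsLocalRing.closedPoint K) = z :=
        congrArg Subtype.val ((pointEquivClosedPoint H.hom).apply_symm_apply ⟨z, hzc⟩)
      exact ⟨e.symm ▸ hz.1, e.symm ▸ hz.2⟩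
    obtain ⟨u, hu, huy⟩ := hpt s hs hy.1
    obtain ⟨v, hv, hvy⟩ := hpt sᶜ hs.compl hy.2
    have huv : u ≫ q = v ≫ q := Over.OverMorphism.ext
      (ext_of_apply_closedPoint_eq H'.hom (Over.w _) (Over.w _) (by
        show q.left (u.left _) = q.left (v.left _)
        exact huy.trans hvy.symm))
    obtain ⟨z₁, hz₁⟩ := hker _ (1 : 𝟙_ _ ⟶ H) (MonObj.one_comp q)
    obtain ⟨z₂, hz₂⟩ := hker _ (u⁻¹ * v) (by rw [MonObj.mul_comp, GrpObj.inv_comp, huv, inv_mul_cancel])
    let φ : C ⟶ H := (toUnit C ≫ u) * c
    have hφ : ∀ z : 𝟙_ (Over (Spec (CommRingCat.of K))) ⟶ C, z ≫ φ = u * (z ≫ c) := fun z => by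
      simp only [φ, MonObj.comp_mul]
      rw [← Category.assoc, toUnit_unique (z ≫ toUnit C) (𝟙 _), Category.id_comp]
    have h1 : z₁ ≫ φ = u := by rw [hφ, hz₁, _root_.mul_one]
    have h2 : z₂ ≫ φ = v := by rw [hφ, hz₂, mul_inv_cancel_left]
    have hsub : Set.range φ.left ⊆ s := (isConnected_range φ.left.continuous).isPreconnected.subset_isClopen hs
      ⟨u.left (IsLocalRing.closedPoint K), ⟨z₁.left (IsLocalRing.closedPoint K), by
        rw [← Scheme.Hom.comp_apply, ← Over.comp_left, h1]⟩, hu⟩
    exact hv (hsub ⟨z₂.left (IsLocalRing.closedPoint K), by rw [← Scheme.Hom.comp_apply, ← Over.comp_left, h2]⟩)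
  exact { toNonempty := inferInstance }

end Field

variable {S : Scheme.{u}}

/-- The preimage of a subgroup is a subgroup. -/
theorem exists_grpObj_pullback {G G' A : Over S} [GrpObj G] [GrpObj G'] [GrpObj A] (a : A ⟶ G') [IsMonHom a] [Mono a]
    (u : G ⟶ G') [IsMonHom u] :
    ∃ (_ : GrpObj (pullback a u)), IsMonHom (pullback.fst a u) ∧ IsMonHom (pullback.snd a u) := by
  let P := pullback a u
  let p := pullback.fst a u
  let i := pullback.snd a u
  obtain ⟨gP, hi⟩ := SubgrpSpreadLib.exists_grpObj_of_mono i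
    ⟨pullback.lift (1 : 𝟙_ _ ⟶ A) (1 : 𝟙_ _ ⟶ G) (by rw [MonObj.one_comp, MonObj.one_comp]), pullback.lift_snd _ _ _⟩
    ⟨pullback.lift ((fst P P ≫ p) * (snd P P ≫ p)) ((fst P P ≫ i) * (snd P P ≫ i)) (by
      simp only [p, i, MonObj.mul_comp, Category.assoc, pullback.condition]), pullback.lift_snd _ _ _⟩
    ⟨pullback.lift p⁻¹ i⁻¹ (by simp only [p, i, GrpObj.inv_comp, pullback.condition]), pullback.lift_snd _ _ _⟩
  haveI := hi
  refine ⟨gP, ⟨?_, ?_⟩, hi⟩
  · rw [← cancel_mono a, Category.assoc, pullback.condition, ← Category.assoc, IsMonHom.one_hom, IsMonHom.one_hom,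
      IsMonHom.one_hom]
  · rw [← cancel_mono a, Category.assoc, pullback.condition, ← Category.assoc, IsMonHom.mul_hom, Category.assoc,
      IsMonHom.mul_hom, Category.assoc, IsMonHom.mul_hom, tensorHom_comp_tensorHom_assoc,
      tensorHom_comp_tensorHom_assoc, pullback.condition]

/-- Connected fibres with a section are geometrically connected. -/
theorem connectedSpace_pullback_point {H : Over S} [GrpObj H] [LocallyOfFiniteType H.hom] {K : Type u} [Field K]
    (t : Spec (CommRingCat.of K) ⟶ S) (s : S) (hs : t (IsLocalRing.closedPoint K) = s)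
    (hc : _root_.IsConnected (H.hom.base ⁻¹' {s})) : ConnectedSpace ↥(Red.bc t H).left := by
  haveI : ConnectedSpace ↥(H.hom.fiber s) := by
    rw [(H.hom.fiberHomeo s).connectedSpace_iff]
    exact isConnected_iff_connectedSpace.1 hc
  haveI : GeometricallyConnected (H.hom.fiberToSpecResidueField s) := by
    refine MonoFibre.geometricallyConnected_of_section _
      (pullback.lift (S.fromSpecResidueField s ≫ (η[H] : 𝟙_ (Over S) ⟶ H).left) (𝟙 _) ?_) ?_
    · rw [Category.assoc, Category.id_comp]
      have := Over.w (η[H] : 𝟙_ (Over S) ⟶ H)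
      rw [this]
      exact Category.comp_id _
    · exact pullback.lift_snd _ _ _
  subst hs
  obtain ⟨j, hj⟩ : ∃ j, j ≫ S.fromSpecResidueField (t (IsLocalRing.closedPoint K)) = t :=
    ⟨_, S.SpecToEquivOfField K |>.symm_apply_apply t⟩
  haveI : UniversallyOpen (H.hom.fiberToSpecResidueField (t (IsLocalRing.closedPoint K))) := inferInstance
  haveI : ConnectedSpace ↥(Spec (CommRingCat.of K)) := inferInstanceAs (ConnectedSpace (PrimeSpectrum K))
  haveI : ConnectedSpace ↥(pullback (H.hom.fiberToSpecResidueField (t (IsLocalRing.closedPoint K))) j) := inferInstance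
  have e : pullback (pullback.snd H.hom (S.fromSpecResidueField (t (IsLocalRing.closedPoint K)))) j ≅
      pullback H.hom t :=
    pullbackLeftPullbackSndIso _ _ _ ≪≫ pullback.congrHom rfl hj
  exact e.hom.homeomorph.connectedSpace_iff.1
    (inferInstanceAs (ConnectedSpace ↥(pullback (H.hom.fiberToSpecResidueField (t (IsLocalRing.closedPoint K))) j)))

/-- The kernel condition passes to base changes. -/
theorem hker_bc {H H' C : Over S} [GrpObj H] [GrpObj H'] [GrpObj C] (q : H ⟶ H') (c : C ⟶ H)
    (hker : ∀ (T : Over S) (x : T ⟶ H), x ≫ q = 1 → ∃ y, y ≫ c = x) {S' : Scheme.{u}} (t : S' ⟶ S)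
    (T : Over S') (x : T ⟶ Red.bc t H) (hx : x ≫ (Over.pullback t).map q = 1) :
    ∃ y, y ≫ (Over.pullback t).map c = x := by
  obtain ⟨x, rfl⟩ := (FixedSmooth.adjEquiv t H T).surjective x
  rw [← FixedSmooth.adjEquiv_comp, ← map_one (FixedSmooth.adjEquiv t H' T)] at hx
  obtain ⟨y, rfl⟩ := hker _ x ((FixedSmooth.adjEquiv t H' T).injective hx)
  exact ⟨FixedSmooth.adjEquiv t C T y, (FixedSmooth.adjEquiv_comp t c y).symm⟩

theorem main (G G' : Over S) [GrpObj G] [GrpObj G'] [LocallyOfFinitePresentation G.hom]
    [LocallyOfFinitePresentation G'.hom]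
    (u : G ⟶ G') [IsMonHom u] [Flat u.left] [Surjective u.left]
    (C' : Over S) [GrpObj C'] (c' : C' ⟶ G') [IsMonHom c'] [Mono c'] [LocallyOfFinitePresentation C'.hom]
    (H' : Over S) [GrpObj H'] (h' : H' ⟶ G') [IsMonHom h'] [Mono h'] [LocallyOfFinitePresentation H'.hom]
    (hle : ∃ f : C' ⟶ H', f ≫ h' = c') :
    (Smooth (pullback c' u).hom → Smooth H'.hom → Smooth (pullback h' u).hom) ∧
    ((∀ s : S, _root_.IsConnected ((pullback c' u).hom.base ⁻¹' {s})) →
      (∀ s : S, _root_.IsConnected (H'.hom.base ⁻¹' {s})) →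
      ∀ s : S, _root_.IsConnected ((pullback h' u).hom.base ⁻¹' {s})) := by
  obtain ⟨gH, hqh, hjh⟩ := exists_grpObj_pullback h' u
  obtain ⟨gC, hqc, hjc⟩ := exists_grpObj_pullback c' u
  obtain ⟨f, hf⟩ := hle
  let H := pullback h' u
  let C := pullback c' u
  let q : H ⟶ H' := pullback.fst h' u
  let c : C ⟶ H := pullback.lift (pullback.fst c' u ≫ f) (pullback.snd c' u) (by
    rw [Category.assoc, hf, pullback.condition])
  have hker : ∀ (T : Over S) (x : T ⟶ H), x ≫ q = 1 → ∃ y, y ≫ c = x := fun T x hx => by
    have h1 : (x ≫ pullback.snd h' u) ≫ u = 1 := by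
      rw [Category.assoc, ← pullback.condition, ← Category.assoc, show x ≫ pullback.fst h' u = 1 from hx,
        MonObj.one_comp]
    refine ⟨pullback.lift 1 (x ≫ pullback.snd h' u) (by rw [MonObj.one_comp, h1]), ?_⟩
    apply pullback.hom_ext
    · haveI : IsMonHom f := ⟨by rw [← cancel_mono h', Category.assoc, hf, IsMonHom.one_hom, IsMonHom.one_hom],
        by rw [← cancel_mono h', Category.assoc, hf, IsMonHom.mul_hom, Category.assoc, IsMonHom.mul_hom,
          tensorHom_comp_tensorHom_assoc, hf]⟩
      simp only [c, Category.assoc, pullback.lift_fst, pullback.lift_fst_assoc, MonObj.one_comp]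
      exact hx.symm
    · simp only [c, Category.assoc, pullback.lift_snd]
  haveI : LocallyOfFinitePresentation (u.left ≫ G'.hom) := by rw [Over.w]; infer_instance
  haveI : LocallyOfFinitePresentation u.left := FlatLocus.locallyOfFinitePresentation_of_comp u.left G'.hom
  have hpb := (IsPullback.of_hasPullback h' u).flip.map (Over.forget S)
  haveI : Flat q.left := MorphismProperty.of_isPullback (P := @Flat) hpb ‹_›
  haveI : Surjective q.left := MorphismProperty.of_isPullback (P := @Surjective) hpb ‹_›
  haveI : LocallyOfFinitePresentation q.left :=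
    MorphismProperty.of_isPullback (P := @LocallyOfFinitePresentation) hpb ‹_›
  haveI hH : LocallyOfFinitePresentation H.hom := by rw [← Over.w q]; infer_instance
  haveI : LocallyOfFinitePresentation C.hom := by
    have hpc := (IsPullback.of_hasPullback c' u).flip.map (Over.forget S)
    haveI : LocallyOfFinitePresentation (pullback.fst c' u).left :=
      MorphismProperty.of_isPullback (P := @LocallyOfFinitePresentation) hpc ‹_›
    rw [← Over.w (pullback.fst c' u)]; infer_instance
  have key : ∀ s : S, ∃ (K : Type u) (_ : Field K) (_ : IsAlgClosed K) (j : Spec (CommRingCat.of K) ⟶ Spec (S.residueField s)),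
      (j ≫ S.fromSpecResidueField s) (IsLocalRing.closedPoint K) = s := fun s =>
    ⟨AlgebraicClosure (S.residueField s), inferInstance, inferInstance,
      Spec.map (CommRingCat.ofHom (algebraMap (S.residueField s) (AlgebraicClosure (S.residueField s)))),
      Scheme.fromSpecResidueField_apply s _⟩
  refine ⟨fun hC hH' => ?_, fun hC hH' s => ?_⟩
  · haveI : Flat H.hom := by rw [← Over.w q]; infer_instance
    refine Smooth.of_smooth_fiberToSpecResidueField H.hom fun s => ?_
    obtain ⟨K, _, _, j, -⟩ := key s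
    let t := j ≫ S.fromSpecResidueField s
    haveI : Smooth (Red.bc t H').hom := MorphismProperty.pullback_snd (P := @Smooth) _ _ hH'
    haveI : Smooth (Red.bc t C).hom := MorphismProperty.pullback_snd (P := @Smooth) _ _ hC
    haveI : LocallyOfFiniteType (Red.bc t H).hom :=
      MorphismProperty.pullback_snd (P := @LocallyOfFiniteType) _ _ inferInstance
    haveI : Surjective ((Over.pullback t).map q).left := MorphismProperty.overPullbackMap (P := @Surjective) t q ‹_›
    have hsm : Smooth (Red.bc t H).hom :=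
      smooth_field ((Over.pullback t).map q) ((Over.pullback t).map c) (hker_bc q c hker t)
    refine MorphismProperty.of_pullback_snd_of_descendsAlong (P := @Smooth)
      (Q := @Surjective ⊓ @Flat ⊓ @QuasiCompact) (f := H.hom.fiberToSpecResidueField s) (g := j) ?_ ?_
    · exact ⟨⟨inferInstance, inferInstance⟩, inferInstance⟩
    · have hp := (IsPullback.of_hasPullback (H.hom.fiberToSpecResidueField s) j).paste_horiz
        (IsPullback.of_hasPullback H.hom (S.fromSpecResidueField s))
      rw [← hp.isoPullback_hom_snd]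
      exact (MorphismProperty.cancel_left_of_respectsIso @Smooth _ _).2 hsm
  · obtain ⟨K, _, _, j, hj⟩ := key s
    let t := j ≫ S.fromSpecResidueField s
    haveI : ConnectedSpace ↥(Red.bc t C).left := connectedSpace_pullback_point t s hj (hC s)
    haveI : ConnectedSpace ↥(Red.bc t H').left := connectedSpace_pullback_point t s hj (hH' s)
    haveI : LocallyOfFiniteType (Red.bc t H).hom :=
      MorphismProperty.pullback_snd (P := @LocallyOfFiniteType) _ _ inferInstance
    haveI : LocallyOfFiniteType (Red.bc t H').hom :=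
      MorphismProperty.pullback_snd (P := @LocallyOfFiniteType) _ _ inferInstance
    haveI : Flat ((Over.pullback t).map q).left := MorphismProperty.overPullbackMap (P := @Flat) t q ‹_›
    haveI : Surjective ((Over.pullback t).map q).left := MorphismProperty.overPullbackMap (P := @Surjective) t q ‹_›
    haveI : LocallyOfFinitePresentation ((Over.pullback t).map q).left :=
      MorphismProperty.overPullbackMap (P := @LocallyOfFinitePresentation) t q ‹_›
    haveI : ConnectedSpace ↥(Red.bc t H).left :=
      connected_field ((Over.pullback t).map q) ((Over.pullback t).map q).left.isOpenMap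
        ((Over.pullback t).map c) (hker_bc q c hker t)
    have hr : Set.range (pullback.fst H.hom t) = H.hom.base ⁻¹' {s} := by
      rw [Scheme.Pullback.range_fst]
      congr 1
      refine Set.eq_singleton_iff_unique_mem.2 ⟨⟨_, hj⟩, ?_⟩
      rintro _ ⟨z, rfl⟩
      rw [← hj]
      exact congrArg _ (Subsingleton.elim (α := PrimeSpectrum K) _ _)
    rw [← hr]
    haveI : ConnectedSpace ↥(pullback H.hom t) := ‹ConnectedSpace ↥(Red.bc t H).left›
    exact isConnected_range (pullback.fst H.hom t).continuous

end Groth.Agent.PullSubgrp
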